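import Groth.Prelude.Def_SGA7I
import Groth.Agent.EtpbcA.ArtinTrdeg
import Groth.Agent.EtpbcA.ArtinDim
import Groth.Agent.EtpbcA.ArtinField
import Groth.Agent.EtpbcB.OshHens
import Groth.Agent.Sga4h.SLoc
import Groth.Agent.Etrest.ConstBasic
import Groth.Agent.S0146
import Groth.Agent.S0149

/-!
# Cohomological dimension of the nearby fibre

Over a discrete valuation ring `V` (in fact any ring) with a field `K` over `V` and a separably closed
algebraic extension `Ω` of `K`: if `X` is locally of finite type over `V` and `X_K` has dimension at most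
`n`, then `Spec(Osh) ×_V Spec Ω` has cohomological dimension at most `n` (`cohDimLE_nearbyFibre`).
-/

set_option autoImplicit false
set_option linter.style.haveILetI false
universe u
open CategoryTheory CategoryTheory.Limits AlgebraicGeometry Opposite

namespace Groth.Agent.Sga7.H746.NearbyDim

open Groth.Agent.EtpbcA.Artin Groth.Agent.EtpbcB Groth.Agent.EtpbcB.StrictLoc

theorem isTorsion_const (X : Scheme.{u}) (n : ℕ) (hn : 0 < n) :
    EtCoh.IsTorsion (EtCoh.const X (ZMod n)) :=
  Etrest.ConstBasic.isTorsion_of_killedBy hn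
    (Etrest.ConstBasic.killedBy_const X (ZMod n) n fun m => by
      rw [nsmul_eq_mul, ZMod.natCast_self, zero_mul])

section

variable (V K Ω : Type u) [CommRing V] [Field K] [Algebra V K] [Field Ω] [Algebra K Ω] [Algebra V Ω]
  [IsScalarTower V K Ω]

/-- The generic fibre. -/
noncomputable abbrev genFib {X : Scheme.{u}} (f : X ⟶ Spec (CommRingCat.of V)) : Scheme.{u} :=
  pullback f (Spec.map (CommRingCat.ofHom (algebraMap V K)))

variable {V K Ω}

theorem spec_comp : Spec.map (CommRingCat.ofHom (algebraMap K Ω)) ≫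
    Spec.map (CommRingCat.ofHom (algebraMap V K)) = Spec.map (CommRingCat.ofHom (algebraMap V Ω)) := by
  rw [← Spec.map_comp, ← CommRingCat.ofHom_comp, ← IsScalarTower.algebraMap_eq]

/-- The projection `X_Ω ⟶ X_K`. -/
noncomputable def toGen {X : Scheme.{u}} (f : X ⟶ Spec (CommRingCat.of V)) :
    genFib V Ω f ⟶ genFib V K f :=
  pullback.lift (pullback.fst _ _) (pullback.snd _ _ ≫ Spec.map (CommRingCat.ofHom (algebraMap K Ω)))
    (by rw [Category.assoc, spec_comp, pullback.condition])

theorem toGen_snd {X : Scheme.{u}} (f : X ⟶ Spec (CommRingCat.of V)) :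
    toGen (K := K) (Ω := Ω) f ≫ pullback.snd _ _ =
      pullback.snd _ _ ≫ Spec.map (CommRingCat.ofHom (algebraMap K Ω)) :=
  pullback.lift_snd _ _ _

theorem toGen_fst {X : Scheme.{u}} (f : X ⟶ Spec (CommRingCat.of V)) :
    toGen (K := K) (Ω := Ω) f ≫ pullback.fst _ _ = pullback.fst _ _ :=
  pullback.lift_fst _ _ _

theorem isPullback_toGen {X : Scheme.{u}} (f : X ⟶ Spec (CommRingCat.of V)) :
    IsPullback (toGen (K := K) (Ω := Ω) f) (pullback.snd _ _) (pullback.snd _ _)
      (Spec.map (CommRingCat.ofHom (algebraMap K Ω))) := by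
  refine IsPullback.of_right (h₁₂ := pullback.fst _ _) (v₁₃ := f)
    (h₂₂ := Spec.map (CommRingCat.ofHom (algebraMap V K))) ?_ (toGen_snd f) (IsPullback.of_hasPullback _ _)
  rw [toGen_fst, spec_comp]
  exact IsPullback.of_hasPullback _ _

theorem isIntegralHom_toGen [Algebra.IsAlgebraic K Ω] {X : Scheme.{u}} (f : X ⟶ Spec (CommRingCat.of V)) :
    IsIntegralHom (toGen (K := K) (Ω := Ω) f) := by
  have h : IsIntegralHom (Spec.map (CommRingCat.ofHom (algebraMap K Ω))) := by
    rw [IsIntegralHom.SpecMap_iff]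
    exact algebraMap_isIntegral_iff.2 inferInstance
  exact MorphismProperty.of_isPullback (P := @IsIntegralHom) (isPullback_toGen f).flip h

/-- Dimension of étale schemes over `X_Ω`. -/
theorem dim_le [Algebra.IsAlgebraic K Ω] {X : Scheme.{u}} (f : X ⟶ Spec (CommRingCat.of V))
    [LocallyOfFiniteType f] (n : ℕ) (hn : topologicalKrullDim ↥(genFib V K f) ≤ n)
    {W : Scheme.{u}} (w : W ⟶ genFib V Ω f) [AlgebraicGeometry.Etale w] :
    topologicalKrullDim ↥W ≤ n := by
  have h0 := (resTrdegLE_iff_dim K (genFib V K f) (pullback.snd _ _) n).1 hn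
  refine (resTrdegLE_iff_dim Ω W (w ≫ pullback.snd _ _) n).2 fun z => ?_
  have := isIntegralHom_toGen (K := K) (Ω := Ω) f
  have h1 : AlgAt (w ≫ toGen (K := K) (Ω := Ω) f) z :=
    (algAt_of_etale w z).comp (algAt_of_isIntegralHom _ _)
  have h2 := (resTrdegLE_tower (algebraMap K Ω) 0 (by
    have h3 : (algebraMap K Ω).toAlgebra = ‹Algebra K Ω› := by
      apply Algebra.algebra_ext
      intro r
      rfl
    rw [h3, Nat.cast_zero]
    exact trdeg_eq_zero) (pullback.snd _ _) (w ≫ pullback.snd _ _) (w ≫ toGen (K := K) (Ω := Ω) f)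
    (by rw [Category.assoc, toGen_snd, Category.assoc]) z h1 n (h0 _)).2
  exact h2

variable (V K Ω) in
/-- The nearby fibre at a point has cohomological dimension at most the dimension of the generic fibre. -/
theorem cohDimLE_nearbyFibre [Algebra.IsAlgebraic K Ω] [IsSepClosed Ω] {X : Scheme.{u}}
    (f : X ⟶ Spec (CommRingCat.of V)) [LocallyOfFiniteType f] (n : ℕ)
    (hn : topologicalKrullDim ↥(genFib V K f) ≤ n) (x : ↥X)
    (Osh : Type u) [CommRing Osh] [IsLocalRing Osh] [Algebra ↑(X.presheaf.stalk x) Osh]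
    [IsLocalHom (algebraMap ↑(X.presheaf.stalk x) Osh)]
    [Hensel.IsStrictHenselization ↑(X.presheaf.stalk x) Osh] :
    EtCoh.CohDimLE (SGA7.nearbyFibre f x Osh Ω) n := by
  -- a geometric point over `x`
  let κs := SeparableClosure (X.residueField x)
  let ξ : Spec (CommRingCat.of κs) ⟶ X :=
    Spec.map (CommRingCat.ofHom (algebraMap (X.residueField x) κs)) ≫ X.fromSpecResidueField x
  have hξ : ∀ z, ξ z = x := fun z => Scheme.fromSpecResidueField_apply x _
  have h1 := OshHens.isStrictLoc_toBase ξ
  have h2 := Groth.Agent.Etrest.StrictLoc.isStrictLoc_specOf X x Osh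
  obtain ⟨e, he⟩ := Groth.Agent.Sga4h.SLoc.exists_iso h1 h2 (by
    have h3 := Groth.Agent.Etrest.VCBaseChange.specOf_closedPoint X x Osh
    refine Eq.trans ?_ h3.symm
    rw [← pt_default ξ]
    have h4 := congrArg (fun q => q default) (pt_toBase ξ)
    exact h4.trans (hξ _))
  -- the cartesian square
  have hsq : IsPullback (pullback.lift (pullback.fst _ _ ≫ Hens2.specOf X x Osh) (pullback.snd _ _)
      (by rw [Category.assoc, Category.assoc]; exact pullback.condition) :
        SGA7.nearbyFibre f x Osh Ω ⟶ genFib V Ω f)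
      (pullback.fst _ _ ≫ e.hom) (pullback.fst _ _) (toBase ξ) := by
    have hsq0 : IsPullback (pullback.lift (pullback.fst _ _ ≫ Hens2.specOf X x Osh) (pullback.snd _ _)
        (by rw [Category.assoc, Category.assoc]; exact pullback.condition) :
          SGA7.nearbyFibre f x Osh Ω ⟶ genFib V Ω f)
        (pullback.fst _ _) (pullback.fst _ _) (Hens2.specOf X x Osh) := by
      refine IsPullback.of_right (h₁₂ := pullback.snd _ _)
        (v₁₃ := Spec.map (CommRingCat.ofHom (algebraMap V Ω))) (h₂₂ := f) ?_ (pullback.lift_fst _ _ _)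
        (IsPullback.of_hasPullback _ _).flip
      rw [pullback.lift_snd, Category.assoc]
      exact (IsPullback.of_hasPullback _ _).flip
    refine hsq0.of_iso (Iso.refl _) (Iso.refl _) e (Iso.refl _) (by simp) (by simp) (by simp) ?_
    rw [Iso.refl_hom, Category.comp_id]
    exact he.symm
  have haffΩ : IsAffineHom (pullback.fst f (Spec.map (CommRingCat.ofHom (algebraMap V Ω)))) :=
    MorphismProperty.of_isPullback (P := @IsAffineHom) (IsPullback.of_hasPullback _ _).flip
      (inferInstance : IsAffineHom (Spec.map (CommRingCat.ofHom (algebraMap V Ω))))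
  have haff : ∀ i, IsAffine ((DX ξ (pullback.fst f
      (Spec.map (CommRingCat.ofHom (algebraMap V Ω))))).obj i) := by
    intro i
    have h := BCCalc.isPullback_pr (pullback.fst f (Spec.map (CommRingCat.ofHom (algebraMap V Ω))))
      ((D ξ).obj i)
    have h5 : IsAffineHom (BCCalc.pr (pullback.fst f (Spec.map (CommRingCat.ofHom (algebraMap V Ω))))
      ((D ξ).obj i)) := MorphismProperty.of_isPullback (P := @IsAffineHom) h.flip haffΩ
    have h6 : IsAffine ((D ξ).obj i).left := inferInstance
    exact @isAffine_of_isAffineHom _ _ (BCCalc.pr (pullback.fst f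
      (Spec.map (CommRingCat.ofHom (algebraMap V Ω)))) ((D ξ).obj i)) h5 h6
  refine Groth.Agent.S0149.result _ _ (isLimitConeX ξ _ hsq) n fun i => ?_
  have : IsAffine ((EtCoh.bc (pullback.fst f
      (Spec.map (CommRingCat.ofHom (algebraMap V Ω))))).obj ((D ξ).obj i)).left := haff i
  have het : AlgebraicGeometry.Etale ((EtCoh.bc (pullback.fst f
      (Spec.map (CommRingCat.ofHom (algebraMap V Ω))))).obj ((D ξ).obj i)).hom := inferInstance
  have hd := dim_le (K := K) f n hn ((EtCoh.bc (pullback.fst f
      (Spec.map (CommRingCat.ofHom (algebraMap V Ω))))).obj ((D ξ).obj i)).hom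
  have hlft : LocallyOfFiniteType (((EtCoh.bc (pullback.fst f
      (Spec.map (CommRingCat.ofHom (algebraMap V Ω))))).obj ((D ξ).obj i)).hom ≫
        pullback.snd f (Spec.map (CommRingCat.ofHom (algebraMap V Ω)))) := inferInstance
  exact Groth.Agent.S0146.result Ω ((EtCoh.bc (pullback.fst f
      (Spec.map (CommRingCat.ofHom (algebraMap V Ω))))).obj ((D ξ).obj i)).left (((EtCoh.bc (pullback.fst f
      (Spec.map (CommRingCat.ofHom (algebraMap V Ω))))).obj ((D ξ).obj i)).hom ≫
        pullback.snd f (Spec.map (CommRingCat.ofHom (algebraMap V Ω)))) n 0 hd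
        (cohDimLE_of_isSepClosed Ω)

end

end Groth.Agent.Sga7.H746.NearbyDim
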